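import Groth.Agent.FlatMor.K26.StabDefs
import Mathlib.FieldTheory.Galois.Basic
import Mathlib.FieldTheory.IntermediateField.Adjoin.Basic
import Mathlib.LinearAlgebra.Lagrange
import Mathlib.Algebra.Polynomial.Lifts
import Mathlib.Algebra.Polynomial.Div
import Mathlib.GroupTheory.CosetCover
import Mathlib.RingTheory.LocalRing.ResidueField.Basic
import Mathlib.RingTheory.Ideal.Quotient.Operations

/-!
# An étale generator of the inertia field

`N / E` finite Galois, `v` a valuation of `N` extending the one of a valuation ring `R ⊆ E` with infinite residue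
field, `I` the inertia group: there is `t` in the fixed field of `I`, integral at all conjugates, generating the
fixed field, with different a unit at `v`, and such that the valuation ring of the fixed field is a localization of
`O_E[t]` (`exists_etale_generator`).
-/

set_option autoImplicit false

universe u w

open Polynomial K26.Stab

namespace K136.EtGen

section Basic

variable {N : Type*} [Field N] {Γ₀ : Type*} [LinearOrderedCommGroupWithZero Γ₀] (v : Valuation N Γ₀)
  {E : Type*} [Field E] [Algebra E N]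

/-- The coefficients have value at most one. -/
def IntE (p : E[X]) : Prop := ∀ n, v (algebraMap E N (p.coeff n)) ≤ 1

/-- The coefficients have value at most one. -/
def IntN (p : N[X]) : Prop := ∀ n, v (p.coeff n) ≤ 1

variable {v}

theorem IntN.add {p q : N[X]} (hp : IntN v p) (hq : IntN v q) : IntN v (p + q) := fun n => by
  rw [coeff_add]
  exact (v.map_add _ _).trans (max_le (hp n) (hq n))

theorem IntN.mul {p q : N[X]} (hp : IntN v p) (hq : IntN v q) : IntN v (p * q) := fun n => by
  rw [coeff_mul]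
  refine v.map_sum_le fun i _ => ?_
  rw [map_mul]
  exact mul_le_one' (hp _) (hq _)

theorem intN_zero : IntN v (0 : N[X]) := fun n => by
  rw [coeff_zero, map_zero]
  exact zero_le_one

theorem intN_one : IntN v (1 : N[X]) := fun n => by
  rw [coeff_one]
  split_ifs
  · rw [map_one]
  · rw [map_zero]
    exact zero_le_one

theorem intN_C {a : N} (ha : v a ≤ 1) : IntN v (C a) := fun n => by
  rw [coeff_C]
  split_ifs
  · exact ha
  · rw [map_zero]
    exact zero_le_one

theorem intN_X_sub_C {a : N} (ha : v a ≤ 1) : IntN v (X - C a) := by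
  rw [sub_eq_add_neg, ← C_neg]
  refine IntN.add (fun n => ?_) (intN_C (by rwa [Valuation.map_neg]))
  rw [coeff_X]
  split_ifs
  · rw [map_one]
  · rw [map_zero]
    exact zero_le_one

theorem intN_nodal {ι : Type*} {s : Finset ι} {f : ι → N} (h : ∀ i ∈ s, v (f i) ≤ 1) :
    IntN v (Lagrange.nodal s f) := by
  classical
  rw [Lagrange.nodal]
  induction s using Finset.induction_on with
  | empty =>
    rw [Finset.prod_empty]
    exact intN_one
  | insert a s ha ih =>
    rw [Finset.prod_insert ha]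
    exact (intN_X_sub_C (h a (Finset.mem_insert_self _ _))).mul
      (ih fun i hi => h i (Finset.mem_insert_of_mem hi))

theorem intN_sum {ι : Type*} {s : Finset ι} {f : ι → N[X]} (h : ∀ i ∈ s, IntN v (f i)) :
    IntN v (∑ i ∈ s, f i) := by
  classical
  induction s using Finset.induction_on with
  | empty =>
    rw [Finset.sum_empty]
    exact intN_zero
  | insert a s ha ih =>
    rw [Finset.sum_insert ha]
    exact (h a (Finset.mem_insert_self _ _)).add (ih fun i hi => h i (Finset.mem_insert_of_mem hi))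

theorem intE_of_map {p : E[X]} (h : IntN v (p.map (algebraMap E N))) : IntE v p := fun n => by
  rw [← coeff_map]
  exact h n

theorem IntE.le_aeval {p : E[X]} (hp : IntE v p) {y : N} (hy : v y ≤ 1) : v (aeval y p) ≤ 1 := by
  rw [aeval_eq_sum_range]
  refine v.map_sum_le fun i _ => ?_
  rw [Algebra.smul_def, map_mul, map_pow]
  exact mul_le_one' (hp i) (pow_le_one' hy i)

/-- A unit root of a polynomial with a unit coefficient has an inverse modulo the maximal ideal which is a polynomial in
the root. -/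
theorem exists_inv {y : N} (hy : v y = 1) : ∀ (d : ℕ) (Q : E[X]), Q.natDegree ≤ d → IntE v Q →
    (∃ n, v (algebraMap E N (Q.coeff n)) = 1) → v (aeval y Q) < 1 →
    ∃ Z : E[X], IntE v Z ∧ v (y * aeval y Z - 1) < 1 := by
  intro d
  induction d with
  | zero =>
    intro Q hd hQ ⟨n, hn⟩ hv
    have h1 : Q = C (Q.coeff 0) := eq_C_of_natDegree_le_zero hd
    exfalso
    rw [h1, aeval_C] at hv
    rw [h1, coeff_C] at hn
    split_ifs at hn
    · exact absurd hn hv.ne
    · rw [map_zero, map_zero] at hn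
      exact zero_ne_one hn
  | succ d ih =>
    intro Q hd hQ ⟨n, hn⟩ hv
    have h1 : aeval y Q = y * aeval y Q.divX + algebraMap E N (Q.coeff 0) := by
      conv_lhs => rw [← divX_mul_X_add Q]
      rw [map_add, map_mul, aeval_X, aeval_C, mul_comm]
    have hint : IntE v Q.divX := fun n => by
      rw [coeff_divX]
      exact hQ _
    by_cases hc : v (algebraMap E N (Q.coeff 0)) = 1
    · have hc0 : algebraMap E N (Q.coeff 0) ≠ 0 := by
        intro h
        rw [h, map_zero] at hc
        exact zero_ne_one hc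
      refine ⟨C (-(Q.coeff 0)⁻¹) * Q.divX, fun n => ?_, ?_⟩
      · rw [coeff_C_mul, map_mul, map_mul, map_neg, Valuation.map_neg, map_inv₀, map_inv₀, hc, inv_one,
          one_mul]
        exact hint n
      · rw [map_mul, aeval_C, map_neg, map_inv₀]
        have h2 : y * (-(algebraMap E N (Q.coeff 0))⁻¹ * aeval y Q.divX) - 1 =
            -(algebraMap E N (Q.coeff 0))⁻¹ * aeval y Q := by
          rw [h1]
          field_simp
          ring
        rw [h2, map_mul, Valuation.map_neg, map_inv₀, hc, inv_one, one_mul]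
        exact hv
    · have hc' : v (algebraMap E N (Q.coeff 0)) < 1 := lt_of_le_of_ne (hQ 0) hc
      refine ih Q.divX ?_ hint ?_ ?_
      · rw [natDegree_divX_eq_natDegree_tsub_one]
        omega
      · cases n with
        | zero => exact absurd hn hc
        | succ n => exact ⟨n, by rwa [coeff_divX]⟩
      · have h2 : y * aeval y Q.divX = aeval y Q - algebraMap E N (Q.coeff 0) := by
          rw [h1]
          ring
        have h3 : v (y * aeval y Q.divX) < 1 := by
          rw [h2]
          exact (v.map_sub _ _).trans_lt (max_lt hv hc')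
        rwa [map_mul, hy, one_mul] at h3

end Basic

section Galois

variable {N : Type*} [Field N] {E : Type*} [Field E] [Algebra E N] [FiniteDimensional E N] [IsGalois E N]

/-- The product of `X - s` over a Galois stable finite set comes from `E`. -/
theorem exists_nodal [DecidableEq N] (S : Finset N) (hS : ∀ (σ : N ≃ₐ[E] N), ∀ s ∈ S, σ s ∈ S) :
    ∃ P : E[X], P.Monic ∧ P.map (algebraMap E N) = Lagrange.nodal S id := by
  have h1 : Lagrange.nodal S id ∈ lifts (algebraMap E N) := by
    rw [lifts_iff_coeff_lifts]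
    intro n
    have h2 : (Lagrange.nodal S id).coeff n ∈ (⊥ : IntermediateField E N) := by
      rw [IsGalois.mem_bot_iff_fixed]
      intro σ
      have h3 : (Lagrange.nodal S (id : N → N)).map (σ : N →+* N) = Lagrange.nodal S id := by
        rw [Lagrange.nodal, Polynomial.map_prod]
        have h4 : S.image σ = S := by
          refine Finset.eq_of_subset_of_card_le (fun x hx => ?_) ?_
          · obtain ⟨s, hs, rfl⟩ := Finset.mem_image.1 hx
            exact hS σ s hs
          · rw [Finset.card_image_of_injective _ σ.injective]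
        conv_rhs => rw [← h4]
        rw [Finset.prod_image σ.injective.injOn]
        refine Finset.prod_congr rfl fun s _ => ?_
        simp
      have h5 := congrArg (fun p => coeff p n) h3
      rw [coeff_map] at h5
      exact h5
    obtain ⟨x, hx⟩ := IntermediateField.mem_bot.1 h2
    exact ⟨x, hx⟩
  obtain ⟨P, hP⟩ := (mem_lifts _).1 h1
  refine ⟨P, ?_, hP⟩
  have h2 : (P.map (algebraMap E N)).Monic := by
    rw [hP]
    exact Lagrange.nodal_monic
  exact (monic_map_iff (f := algebraMap E N)).1 h2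

end Galois

section Avoid

/-- Avoiding finitely many proper subspaces. -/
theorem avoid {kR κ : Type*} [Field kR] [Infinite kR] [Field κ] [Algebra kR κ] {ι : Type*} [Finite ι]
    (φ : ι → κ →+* κ) (hk : ∀ i c, φ i (algebraMap kR κ c) = algebraMap kR κ c)
    (hφ : ∀ i, ¬ ∀ x, φ i x = x) (e : ℕ) (he : 0 < e) :
    ∃ x : κ, x ≠ 0 ∧ ∀ i, (φ i x) ^ e ≠ x ^ e := by
  classical
  let V : ι → κ → Submodule kR κ := fun i ω =>
    { carrier := {x | φ i x = ω * x}
      add_mem' := fun {a b} ha hb => by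
        change φ i (a + b) = ω * (a + b)
        rw [map_add, mul_add]
        exact congrArg₂ (· + ·) ha hb
      zero_mem' := by
        change φ i 0 = ω * 0
        rw [map_zero, mul_zero]
      smul_mem' := fun c x hx => by
        change φ i (c • x) = ω * (c • x)
        have h2 : φ i x = ω * x := hx
        rw [Algebra.smul_def, map_mul, hk, h2]
        ring }
  have hroots : {ω : κ | ω ^ e = 1}.Finite := by
    refine (Polynomial.nthRootsFinset e (1 : κ)).finite_toSet.subset fun ω hω => ?_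
    exact (Polynomial.mem_nthRootsFinset he _).2 hω
  have : Finite {ω : κ // ω ^ e = 1} := hroots
  let p : Option (ι × {ω : κ // ω ^ e = 1}) → Submodule kR κ := fun i =>
    match i with
    | none => ⊥
    | some q => V q.1 q.2.1
  have hun : ⋃ i, (p i : Set κ) ≠ Set.univ := by
    intro hun
    obtain ⟨i, hi⟩ := Subspace.exists_eq_top_of_iUnion_eq_univ hun
    cases i with
    | none =>
      have h1 : (1 : κ) ∈ p none := by rw [hi]; trivial
      exact one_ne_zero ((Submodule.mem_bot _).1 h1)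
    | some q =>
      obtain ⟨i, ⟨ω, hω⟩⟩ := q
      have hall : ∀ x, φ i x = ω * x := fun x => by
        have h1 : x ∈ p (some (i, ⟨ω, hω⟩)) := by
          rw [hi]
          trivial
        exact h1
      have hω1 : ω = 1 := by
        have h1 := hall 1
        rw [map_one, mul_one] at h1
        exact h1.symm
      exact hφ i fun x => by rw [hall, hω1, one_mul]
  obtain ⟨x, hx⟩ := (Set.ne_univ_iff_exists_notMem _).1 hun
  rw [Set.mem_iUnion, not_exists] at hx
  have hx0 : x ≠ 0 := fun h => hx none ((Submodule.mem_bot _).2 h)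
  refine ⟨x, hx0, fun i h1 => ?_⟩
  have h2 : (φ i x / x) ^ e = 1 := by
    rw [div_pow, h1, div_self (pow_ne_zero _ hx0)]
  refine hx (some (i, ⟨_, h2⟩)) ?_
  change φ i x = _ * x
  rw [div_mul_cancel₀ _ hx0]

end Avoid

section Main

variable {N : Type w} [Field N] {Γ₀ : Type*} [LinearOrderedCommGroupWithZero Γ₀] (v : Valuation N Γ₀)
  (E : Type*) [Field E] [Algebra E N]

/-- The elements all of whose conjugates are integral. -/
def Bt : Subring N where
  carrier := {x | ∀ σ : N ≃ₐ[E] N, v (σ x) ≤ 1}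
  mul_mem' {a b} ha hb σ := by
    rw [map_mul, map_mul]
    exact mul_le_one' (ha σ) (hb σ)
  one_mem' σ := by
    rw [map_one, map_one]
  add_mem' {a b} ha hb σ := by
    rw [map_add]
    exact (v.map_add _ _).trans (max_le (ha σ) (hb σ))
  zero_mem' σ := by
    rw [map_zero, map_zero]
    exact zero_le_one
  neg_mem' {a} ha σ := by
    rw [map_neg, Valuation.map_neg]
    exact ha σ

variable {v E}

theorem mem_Bt {x : N} : x ∈ Bt v E ↔ ∀ σ : N ≃ₐ[E] N, v (σ x) ≤ 1 := Iff.rfl

theorem Bt_le {x : N} (hx : x ∈ Bt v E) : v x ≤ 1 := hx 1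

theorem smul_mem_Bt {x : N} (hx : x ∈ Bt v E) (σ : N ≃ₐ[E] N) : σ x ∈ Bt v E := fun τ => hx (τ * σ)

theorem aeval_mem_Bt {p : E[X]} (hp : IntE v p) {y : N} (hy : y ∈ Bt v E) : aeval y p ∈ Bt v E := fun σ => by
  have h : σ (aeval y p) = aeval (σ y) p := (aeval_algHom_apply (σ : N →ₐ[E] N) y p).symm
  rw [h]
  exact hp.le_aeval (hy σ)

/-- The action of the Galois group on `Bt`. -/
def act (σ : N ≃ₐ[E] N) : Bt v E →+* Bt v E where
  toFun x := ⟨σ x, smul_mem_Bt x.2 σ⟩
  map_one' := Subtype.ext (map_one σ)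
  map_mul' x y := Subtype.ext (map_mul σ _ _)
  map_zero' := Subtype.ext (map_zero σ)
  map_add' x y := Subtype.ext (map_add σ _ _)

/-- The ideal of elements with `v (σ x) < 1`. -/
def M (v : Valuation N Γ₀) (σ : N ≃ₐ[E] N) : Ideal (Bt v E) where
  carrier := {x | v (σ x) < 1}
  add_mem' {a b} ha hb := by
    change v (σ (a + b : N)) < 1
    rw [map_add]
    exact (v.map_add _ _).trans_lt (max_lt ha hb)
  zero_mem' := by
    change v (σ 0) < 1
    rw [map_zero, map_zero]
    exact zero_lt_one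
  smul_mem' c x hx := by
    change v (σ (c * x : N)) < 1
    rw [map_mul, map_mul]
    exact (mul_le_mul' (c.2 σ) le_rfl).trans_lt (by rw [one_mul]; exact hx)

theorem mem_M {σ : N ≃ₐ[E] N} {x : Bt v E} : x ∈ M v σ ↔ v (σ (x : N)) < 1 := Iff.rfl

theorem isMaximal_M [FiniteDimensional E N] [IsGalois E N] (σ : N ≃ₐ[E] N) : (M v σ).IsMaximal := by
  classical
  rw [Ideal.isMaximal_iff]
  refine ⟨fun h => ?_, fun J y hJ hy hyJ => ?_⟩
  · rw [mem_M] at h
    change v (σ 1) < 1 at h
    rw [map_one, map_one] at h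
    exact lt_irrefl _ h
  have hy1 : v (σ (y : N)) = 1 := le_antisymm (y.2 σ) (not_lt.1 hy)
  let S : Finset N := Finset.univ.image fun τ : N ≃ₐ[E] N => τ (y : N)
  obtain ⟨Q, hQm, hQ⟩ := exists_nodal (E := E) S (by
    intro τ s hs
    obtain ⟨ρ, -, rfl⟩ := Finset.mem_image.1 hs
    exact Finset.mem_image.2 ⟨τ * ρ, Finset.mem_univ _, rfl⟩)
  have hQi : IntE v Q := by
    refine intE_of_map ?_
    rw [hQ]
    refine intN_nodal fun s hs => ?_
    obtain ⟨ρ, -, rfl⟩ := Finset.mem_image.1 hs
    exact y.2 ρ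
  have hroot : aeval (σ (y : N)) Q = 0 := by
    rw [← eval_map_algebraMap, hQ]
    exact Lagrange.eval_nodal_at_node (v := (id : N → N)) (Finset.mem_image_of_mem _ (Finset.mem_univ σ))
  obtain ⟨Z, hZ, hv⟩ := exists_inv (E := E) hy1 _ Q le_rfl hQi ⟨Q.natDegree, by
    rw [hQm.coeff_natDegree, map_one, map_one]⟩ (by
    rw [hroot, map_zero]
    exact zero_lt_one)
  let z : Bt v E := ⟨aeval (y : N) Z, aeval_mem_Bt hZ y.2⟩
  have h1 : y * z - 1 ∈ M v σ := by
    rw [mem_M]
    change v (σ ((y : N) * aeval (y : N) Z - 1)) < 1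
    have h : σ (aeval (y : N) Z) = aeval (σ (y : N)) Z := (aeval_algHom_apply (σ : N →ₐ[E] N) (y : N) Z).symm
    rw [map_sub, map_mul, map_one, h]
    exact hv
  have h2 : (1 : Bt v E) = y * z - (y * z - 1) := by ring
  rw [h2]
  exact J.sub_mem (J.mul_mem_right _ hyJ) (hJ h1)

/-- The elements of the decomposition group. -/
def InZ (v : Valuation N Γ₀) (σ : N ≃ₐ[E] N) : Prop := ∀ x, v (σ x) ≤ 1 ↔ v x ≤ 1

theorem InZ.lt {σ : N ≃ₐ[E] N} (h : InZ v σ) {x : N} : v (σ x) < 1 ↔ v x < 1 := by
  rcases eq_or_ne x 0 with rfl | hx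
  · rw [map_zero]
  · have h1 := h x⁻¹
    rw [map_inv₀, map_inv₀, map_inv₀, inv_le_one₀, inv_le_one₀] at h1
    · rw [← not_le, ← not_le, h1]
    · exact zero_lt_iff.2 ((Valuation.ne_zero_iff _).2 hx)
    · exact zero_lt_iff.2 ((Valuation.ne_zero_iff _).2 (by simpa using hx))

section Base

variable {R : Type*} [CommRing R] [IsLocalRing R] [Algebra R N] [Algebra R E] [IsScalarTower R E N]
  (hB : Base₀ R v) (hinf : Infinite (IsLocalRing.ResidueField R))

omit [Algebra R E] [IsScalarTower R E N] in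
include hB hinf in
/-- avoiding all conjugates -/
theorem exists_avoid [FiniteDimensional E N] (x : N) :
    ∃ a : R, ∀ σ : N ≃ₐ[E] N, 1 ≤ v (σ x - algebraMap R N a) := by
  classical
  by_contra hcon
  push Not at hcon
  have hfin : (Set.univ : Set (IsLocalRing.ResidueField R)).Finite := by
    have h1 : (Set.univ : Set (IsLocalRing.ResidueField R)) ⊆ ⋃ σ : N ≃ₐ[E] N,
        {b | ∃ a : R, IsLocalRing.residue R a = b ∧ v (σ x - algebraMap R N a) < 1} := by
      intro b _
      obtain ⟨a, rfl⟩ := IsLocalRing.residue_surjective b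
      obtain ⟨σ, hσ⟩ := hcon a
      exact Set.mem_iUnion.2 ⟨σ, a, rfl, hσ⟩
    refine Set.Finite.subset (Set.finite_iUnion fun σ => Set.Subsingleton.finite ?_) h1
    rintro _ ⟨a, rfl, ha⟩ _ ⟨b, rfl, hb⟩
    rw [← sub_eq_zero, ← map_sub, IsLocalRing.residue_eq_zero_iff, IsLocalRing.mem_maximalIdeal, mem_nonunits_iff]
    intro hu
    have h2 : v (algebraMap R N (a - b)) < 1 := by
      have h3 : algebraMap R N (a - b) = (σ x - algebraMap R N b) - (σ x - algebraMap R N a) := by
        rw [map_sub]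
        ring
      rw [h3]
      exact (v.map_sub _ _).trans_lt (max_lt hb ha)
    rw [hB.unit hu] at h2
    exact lt_irrefl _ h2
  exact Set.infinite_univ hfin

omit [IsLocalRing R] in
theorem apply_algebraMap (σ : N ≃ₐ[E] N) (a : R) : σ (algebraMap R N a) = algebraMap R N a := by
  rw [IsScalarTower.algebraMap_apply R E N]
  exact σ.commutes _

omit [IsLocalRing R] in
/-- The inverse of `x - a`. -/
theorem inv_mem_Bt {x : N} {a : R} (ha : ∀ σ : N ≃ₐ[E] N, 1 ≤ v (σ x - algebraMap R N a)) (σ : N ≃ₐ[E] N) :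
    v (σ (x - algebraMap R N a)⁻¹) = (v (σ x - algebraMap R N a))⁻¹ := by
  rw [map_inv₀, map_inv₀, map_sub, apply_algebraMap]

omit [IsLocalRing R] in
theorem inv_mem_Bt' {x : N} {a : R} (ha : ∀ σ : N ≃ₐ[E] N, 1 ≤ v (σ x - algebraMap R N a)) :
    (x - algebraMap R N a)⁻¹ ∈ Bt v E := fun σ => by
  rw [inv_mem_Bt ha]
  exact inv_le_one_of_one_le₀ (ha σ)

include hB hinf in
/-- Every element of the valuation ring is a fraction of elements of `Bt`. -/
theorem exists_frac [FiniteDimensional E N] {x : N} (hx : v x ≤ 1) :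
    ∃ b ∈ Bt v E, v b = 1 ∧ b * x ∈ Bt v E ∧ ∀ σ : N ≃ₐ[E] N, σ x = x → σ b = b := by
  obtain ⟨a, ha⟩ := exists_avoid (E := E) hB hinf x
  have h1 : v (x - algebraMap R N a) = 1 :=
    le_antisymm ((v.map_sub _ _).trans (max_le hx (hB.le a))) (ha 1)
  have hne : x - algebraMap R N a ≠ 0 := by
    intro h
    rw [h, map_zero] at h1
    exact zero_ne_one h1
  have hb := inv_mem_Bt' ha
  refine ⟨(x - algebraMap R N a)⁻¹, hb, by rw [map_inv₀, h1, inv_one], ?_, fun σ hσ => ?_⟩
  · have h2 : (x - algebraMap R N a)⁻¹ * x = 1 + algebraMap R N a * (x - algebraMap R N a)⁻¹ := by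
      field_simp
      ring
    rw [h2]
    refine (Bt v E).add_mem (Bt v E).one_mem ((Bt v E).mul_mem (fun σ => ?_) hb)
    rw [apply_algebraMap]
    exact hB.le a
  · rw [map_inv₀, map_sub, apply_algebraMap, hσ]

include hB hinf in
theorem M_ne [FiniteDimensional E N] {σ : N ≃ₐ[E] N} (hσ : ¬ InZ v σ) : M v σ ≠ M v (1 : N ≃ₐ[E] N) := by
  intro heq
  apply hσ
  intro x
  obtain ⟨a, ha⟩ := exists_avoid (E := E) hB hinf x
  have hb := inv_mem_Bt' ha
  have h0 : (⟨_, hb⟩ : Bt v E) ∈ M v σ ↔ (⟨_, hb⟩ : Bt v E) ∈ M v (1 : N ≃ₐ[E] N) := by rw [heq]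
  rw [mem_M, mem_M, inv_mem_Bt ha, inv_mem_Bt ha] at h0
  -- `v (τ x) ≤ 1` iff `v (τ x - a) = 1` iff the inverse is not in the ideal
  have key : ∀ τ : N ≃ₐ[E] N, v (τ x) ≤ 1 ↔ ¬ (v (τ x - algebraMap R N a))⁻¹ < 1 := by
    intro τ
    have hpos : 0 < v (τ x - algebraMap R N a) := lt_of_lt_of_le zero_lt_one (ha τ)
    rw [inv_lt_one₀ hpos, not_lt]
    constructor
    · intro h
      exact (v.map_sub _ _).trans (max_le h (hB.le a))
    · intro h
      have h1 : τ x = (τ x - algebraMap R N a) + algebraMap R N a := by ring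
      rw [h1]
      exact (v.map_add _ _).trans (max_le h (hB.le a))
  rw [key σ, h0, ← key 1]
  rfl

include hB hinf in
theorem exists_e_one [FiniteDimensional E N] [IsGalois E N] {σ : N ≃ₐ[E] N} (hσ : ¬ InZ v σ) :
    ∃ e ∈ Bt v E, v (e - 1) < 1 ∧ v (σ e) < 1 := by
  have h1 := isMaximal_M (v := v) σ
  have h2 := isMaximal_M (v := v) (1 : N ≃ₐ[E] N)
  have h3 : M v (1 : N ≃ₐ[E] N) ⊔ M v σ = ⊤ := h2.coprime_of_ne h1 (M_ne hB hinf hσ).symm
  obtain ⟨a, ha, b, hb, hab⟩ := Submodule.mem_sup.1 (show (1 : Bt v E) ∈ M v (1 : N ≃ₐ[E] N) ⊔ M v σ by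
    rw [h3]; trivial)
  refine ⟨b, b.2, ?_, hb⟩
  have h4 : (b : N) - 1 = -(a : N) := by
    have h5 := congrArg (fun z : Bt v E => (z : N)) hab
    change (a : N) + b = 1 at h5
    rw [← h5]
    ring
  rw [h4, Valuation.map_neg]
  exact ha

include hB hinf in
theorem exists_e [FiniteDimensional E N] [IsGalois E N] :
    ∃ e ∈ Bt v E, v (e - 1) < 1 ∧ ∀ σ : N ≃ₐ[E] N, ¬ InZ v σ → v (σ e) < 1 := by
  classical
  have key : ∀ s : Finset (N ≃ₐ[E] N), ∃ e ∈ Bt v E, v (e - 1) < 1 ∧ ∀ σ ∈ s, ¬ InZ v σ → v (σ e) < 1 := by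
    intro s
    induction s using Finset.induction_on with
    | empty => exact ⟨1, (Bt v E).one_mem, by rw [sub_self, map_zero]; exact zero_lt_one, by simp⟩
    | insert σ s hσ ih =>
      obtain ⟨e, he, he1, hes⟩ := ih
      by_cases hZ : InZ v σ
      · refine ⟨e, he, he1, fun τ hτ hτZ => ?_⟩
        rcases Finset.mem_insert.1 hτ with rfl | h
        · exact absurd hZ hτZ
        · exact hes τ h hτZ
      · obtain ⟨f, hf, hf1, hfs⟩ := exists_e_one hB hinf hZ
        refine ⟨e * f, (Bt v E).mul_mem he hf, ?_, fun τ hτ hτZ => ?_⟩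
        · have h1 : e * f - 1 = e * (f - 1) + (e - 1) := by ring
          rw [h1]
          refine (v.map_add _ _).trans_lt (max_lt ?_ he1)
          rw [map_mul]
          exact (mul_le_mul' (Bt_le he) le_rfl).trans_lt (by rwa [one_mul])
        · rw [map_mul, map_mul]
          rcases Finset.mem_insert.1 hτ with rfl | h
          · exact (mul_le_mul' (he τ) le_rfl).trans_lt (by rwa [one_mul])
          · exact (mul_le_mul' le_rfl (hf τ)).trans_lt (by rw [mul_one]; exact hes τ h hτZ)
  obtain ⟨e, he, he1, h⟩ := key Finset.univ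
  exact ⟨e, he, he1, fun σ => h σ (Finset.mem_univ σ)⟩

/-- The residue field of `Bt`. -/
theorem exists_residue [FiniteDimensional E N] [IsGalois E N] :
    ∃ (κ : Type w) (_ : Field κ) (π : Bt v E →+* κ), Function.Surjective π ∧
      ∀ x, π x = 0 ↔ v (x : N) < 1 := by
  have hm := isMaximal_M (v := v) (1 : N ≃ₐ[E] N)
  exact ⟨Bt v E ⧸ M v (1 : N ≃ₐ[E] N), Ideal.Quotient.field _, Ideal.Quotient.mk _,
    Ideal.Quotient.mk_surjective, fun x => Ideal.Quotient.eq_zero_iff_mem⟩

include hB hinf in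
/-- An element whose residue avoids finitely many proper subspaces. -/
theorem exists_x0 [FiniteDimensional E N] [IsGalois E N] (I : Set (N ≃ₐ[E] N))
    (hI : ∀ σ, σ ∈ I ↔ ∀ x, v x ≤ 1 → v (σ x - x) < 1) (e : ℕ) (he : 0 < e) :
    ∃ x ∈ Bt v E, v x = 1 ∧ ∀ σ : N ≃ₐ[E] N, InZ v σ → σ ∉ I → v ((σ x) ^ e - x ^ e) = 1 := by
  classical
  obtain ⟨κ, hκ, π, hπ, hker⟩ := exists_residue (v := v) (E := E)
  let f : R →+* Bt v E := (algebraMap R N).codRestrict (Bt v E) fun r σ => by
    rw [apply_algebraMap]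
    exact hB.le r
  have hf : ∀ (σ : N ≃ₐ[E] N) (a : R), act σ (f a) = f a := fun σ a => Subtype.ext (apply_algebraMap σ a)
  have hloc : IsLocalHom (π.comp f) := ⟨fun a ha => by
    by_contra hu
    have h1 : π (f a) = 0 := (hker _).2 (hB.lt a hu)
    rw [RingHom.comp_apply, h1] at ha
    exact not_isUnit_zero ha⟩
  have hle : ∀ σ : N ≃ₐ[E] N, InZ v σ → RingHom.ker π ≤ RingHom.ker (π.comp (act σ)) := by
    intro σ hσ x hx
    rw [RingHom.mem_ker] at hx ⊢
    rw [RingHom.comp_apply, hker]
    rw [hker] at hx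
    exact (hσ.lt).2 hx
  have hφ0 : ∀ (i : {σ : N ≃ₐ[E] N // InZ v σ ∧ σ ∉ I}), ∃ φ : κ →+* κ, ∀ x, φ (π x) = π (act i.1 x) := by
    intro i
    exact ⟨π.liftOfSurjective hπ ⟨π.comp (act i.1), hle _ i.2.1⟩,
      fun x => RingHom.liftOfSurjective_comp_apply π hπ _ x⟩
  choose φ hφ using hφ0
  -- the residue field of `R` acts on `κ`
  let _ : Algebra (IsLocalRing.ResidueField R) κ := (IsLocalRing.ResidueField.lift (π.comp f)).toAlgebra
  have halg : ∀ a : R, algebraMap (IsLocalRing.ResidueField R) κ (IsLocalRing.residue R a) = π (f a) :=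
    fun a => rfl
  obtain ⟨xb, hxb0, hxb⟩ := avoid (kR := IsLocalRing.ResidueField R) φ (by
    intro i c
    obtain ⟨a, rfl⟩ := IsLocalRing.residue_surjective c
    rw [halg, hφ, hf]) (by
    intro i hall
    apply i.2.2
    rw [hI]
    have hB' : ∀ y ∈ Bt v E, v (i.1 y - y) < 1 := by
      intro y hy
      have h1 := hall (π ⟨y, hy⟩)
      rw [hφ, ← sub_eq_zero, ← map_sub, hker] at h1
      exact h1
    intro x hx
    obtain ⟨b, hb, hb1, hbx, -⟩ := exists_frac (E := E) hB hinf hx
    have hσb : v (i.1 b) = 1 := by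
      have h1 : i.1 b = (i.1 b - b) + b := by ring
      rw [h1, v.map_add_eq_of_lt_right (by rw [hb1]; exact hB' b hb), hb1]
    have h2 : i.1 b * (i.1 x - x) = (i.1 (b * x) - b * x) - (i.1 b - b) * x := by
      rw [map_mul]
      ring
    have h3 : v (i.1 b * (i.1 x - x)) < 1 := by
      rw [h2]
      refine (v.map_sub _ _).trans_lt (max_lt (hB' _ hbx) ?_)
      rw [map_mul]
      exact (mul_le_mul' le_rfl hx).trans_lt (by rw [mul_one]; exact hB' b hb)
    rwa [map_mul, hσb, one_mul] at h3) e he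
  obtain ⟨x, rfl⟩ := hπ xb
  have hx1 : v (x : N) = 1 := by
    refine le_antisymm (Bt_le x.2) (not_lt.1 fun h => hxb0 ?_)
    exact (hker x).2 h
  refine ⟨x, x.2, hx1, fun σ hσ hσI => ?_⟩
  refine le_antisymm ?_ (not_lt.1 fun h => ?_)
  · refine (v.map_sub _ _).trans (max_le ?_ ?_)
    · rw [map_pow]
      exact pow_le_one' (x.2 σ) e
    · rw [map_pow]
      exact pow_le_one' (Bt_le x.2) e
  · refine hxb ⟨σ, hσ, hσI⟩ ?_
    rw [hφ, ← map_pow π, ← map_pow π, ← sub_eq_zero, ← map_sub, hker]
    exact h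

include hB hinf in
/-- The generator. -/
theorem exists_t [FiniteDimensional E N] [IsGalois E N] (I : Subgroup (N ≃ₐ[E] N))
    (hI : ∀ σ, σ ∈ I ↔ ∀ x, v x ≤ 1 → v (σ x - x) < 1) :
    ∃ t ∈ Bt v E, (∀ σ ∈ I, σ t = t) ∧ ∀ σ : N ≃ₐ[E] N, σ ∉ I → v (σ t - t) = 1 := by
  classical
  have hcard : 0 < Fintype.card I := Fintype.card_pos
  obtain ⟨x0, hx0, hx01, hx0I⟩ := exists_x0 hB hinf (I : Set (N ≃ₐ[E] N)) hI _ hcard
  obtain ⟨e, he, he1, heZ⟩ := exists_e (E := E) hB hinf
  -- `e` is a unit
  have hve : v e = 1 := by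
    have h1 : e = (e - 1) + 1 := by ring
    rw [h1, v.map_add_eq_of_lt_right (by rw [map_one]; exact he1), map_one]
  have hx : x0 * e ∈ Bt v E := (Bt v E).mul_mem hx0 he
  have hInZ : ∀ σ ∈ I, InZ v σ := by
    intro σ hσ x
    have key : ∀ τ ∈ I, ∀ x, v x ≤ 1 → v (τ x) ≤ 1 := by
      intro τ hτ x hx
      have h1 : τ x = (τ x - x) + x := by ring
      rw [h1]
      exact (v.map_add _ _).trans (max_le ((hI τ).1 hτ x hx).le hx)
    refine ⟨fun h => ?_, key σ hσ x⟩
    have h1 := key σ⁻¹ (I.inv_mem hσ) _ h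
    have h2 : (σ⁻¹ : N ≃ₐ[E] N) (σ x) = x := σ.symm_apply_apply x
    rwa [h2] at h1
  let t : N := ∏ τ : I, (τ : N ≃ₐ[E] N) (x0 * e)
  have ht : t ∈ Bt v E := (Bt v E).prod_mem fun τ _ => smul_mem_Bt hx _
  have hx1 : v (x0 * e) = 1 := by rw [map_mul, hx01, hve, one_mul]
  -- congruence of products
  have hcong : ∀ (s : Finset I) (a b : I → N), (∀ i, v (a i) ≤ 1) → (∀ i, v (b i) ≤ 1) →
      (∀ i, v (a i - b i) < 1) → v (∏ i ∈ s, a i - ∏ i ∈ s, b i) < 1 := by
    intro s a b ha hb hab
    induction s using Finset.induction_on with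
    | empty =>
      rw [Finset.prod_empty, Finset.prod_empty, sub_self, map_zero]
      exact zero_lt_one
    | insert i s hi ih =>
      rw [Finset.prod_insert hi, Finset.prod_insert hi]
      have h1 : a i * ∏ j ∈ s, a j - b i * ∏ j ∈ s, b j =
          a i * (∏ j ∈ s, a j - ∏ j ∈ s, b j) + (a i - b i) * ∏ j ∈ s, b j := by ring
      rw [h1]
      refine (v.map_add _ _).trans_lt (max_lt ?_ ?_)
      · rw [map_mul]
        exact (mul_le_mul' (ha i) le_rfl).trans_lt (by rwa [one_mul])
      · rw [map_mul]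
        refine (mul_le_mul' le_rfl ?_).trans_lt (by rw [mul_one]; exact hab i)
        rw [map_prod]
        exact Finset.prod_le_one' fun j _ => hb j
  have hvt : v (t - (x0 * e) ^ Fintype.card I) < 1 := by
    have h1 : (x0 * e) ^ Fintype.card I = ∏ τ : I, x0 * e := by
      rw [Finset.prod_const, Finset.card_univ]
    rw [h1]
    exact hcong _ _ _ (fun τ => hx _) (fun τ => Bt_le hx) fun τ => (hI _).1 τ.2 _ (Bt_le hx)
  have hvt1 : v t = 1 := by
    change v (∏ τ : I, (τ : N ≃ₐ[E] N) (x0 * e)) = 1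
    rw [map_prod]
    refine Finset.prod_eq_one fun τ _ => ?_
    have h1 : (τ : N ≃ₐ[E] N) (x0 * e) = ((τ : N ≃ₐ[E] N) (x0 * e) - x0 * e) + x0 * e := by ring
    rw [h1, v.map_add_eq_of_lt_right (by rw [hx1]; exact (hI _).1 τ.2 _ (Bt_le hx)), hx1]
  refine ⟨t, ht, fun σ hσ => ?_, fun σ hσ => ?_⟩
  · change σ (∏ τ : I, (τ : N ≃ₐ[E] N) (x0 * e)) = ∏ τ : I, (τ : N ≃ₐ[E] N) (x0 * e)
    rw [map_prod]
    exact Fintype.prod_equiv (Equiv.mulLeft (⟨σ, hσ⟩ : I)) _ _ fun τ => rfl
  · by_cases hZ : InZ v σ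
    · refine le_antisymm ((v.map_sub _ _).trans (max_le (ht σ) (Bt_le ht))) (not_lt.1 fun h => ?_)
      -- `σ t` is congruent to `(σ x)^e`
      have h1 : v (σ (t - (x0 * e) ^ Fintype.card I)) < 1 := hZ.lt.2 hvt
      have h2 : v (σ (x0 * e) ^ Fintype.card I - (x0 * e) ^ Fintype.card I) < 1 := by
        have h3 : σ (x0 * e) ^ Fintype.card I - (x0 * e) ^ Fintype.card I =
            (t - (x0 * e) ^ Fintype.card I) + ((σ t - t) - σ (t - (x0 * e) ^ Fintype.card I)) := by
          rw [map_sub, map_pow]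
          ring
        rw [h3]
        exact (v.map_add _ _).trans_lt (max_lt hvt ((v.map_sub _ _).trans_lt (max_lt h h1)))
      -- replace `e` by one
      have h4 : ∀ (n : ℕ), v ((x0 * e) ^ n - x0 ^ n) < 1 := by
        intro n
        have h5 : v (x0 * e - x0) < 1 := by
          have h6 : x0 * e - x0 = x0 * (e - 1) := by ring
          rw [h6, map_mul, hx01, one_mul]
          exact he1
        induction n with
        | zero =>
          rw [pow_zero, pow_zero, sub_self, map_zero]
          exact zero_lt_one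
        | succ n ih =>
          have h6 : (x0 * e) ^ (n + 1) - x0 ^ (n + 1) =
              (x0 * e) ^ n * (x0 * e - x0) + ((x0 * e) ^ n - x0 ^ n) * x0 := by ring
          rw [h6]
          refine (v.map_add _ _).trans_lt (max_lt ?_ ?_)
          · rw [map_mul, map_pow, hx1, one_pow, one_mul]
            exact h5
          · rw [map_mul, hx01, mul_one]
            exact ih
      have h5 := h4 (Fintype.card I)
      have h6 : v (σ ((x0 * e) ^ Fintype.card I - x0 ^ Fintype.card I)) < 1 := hZ.lt.2 h5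
      have h7 : v (σ x0 ^ Fintype.card I - x0 ^ Fintype.card I) < 1 := by
        have h8 : σ x0 ^ Fintype.card I - x0 ^ Fintype.card I =
            (σ (x0 * e) ^ Fintype.card I - (x0 * e) ^ Fintype.card I) +
              (((x0 * e) ^ Fintype.card I - x0 ^ Fintype.card I) -
                σ ((x0 * e) ^ Fintype.card I - x0 ^ Fintype.card I)) := by
          rw [map_sub, map_pow, map_pow]
          ring
        rw [h8]
        exact (v.map_add _ _).trans_lt (max_lt h2 ((v.map_sub _ _).trans_lt (max_lt h5 h6)))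
      exact h7.ne (hx0I σ hZ hσ)
    · have h1 : v (σ t) < 1 := by
        change v (σ (∏ τ : I, (τ : N ≃ₐ[E] N) (x0 * e))) < 1
        rw [map_prod, map_prod, ← Finset.mul_prod_erase _ _ (Finset.mem_univ (1 : I))]
        refine (mul_le_mul' le_rfl (Finset.prod_le_one' fun τ _ => ?_)).trans_lt ?_
        · exact smul_mem_Bt hx (τ : N ≃ₐ[E] N) σ
        · rw [mul_one]
          change v (σ (x0 * e)) < 1
          rw [map_mul, map_mul]
          exact (mul_le_mul' (hx0 σ) le_rfl).trans_lt (by rw [one_mul]; exact heZ σ hZ)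
      rw [v.map_sub_swap, v.map_sub_eq_of_lt_left (by rw [hvt1]; exact h1), hvt1]

end Base

end Main

section Final

variable {R : Type u} [CommRing R] [IsDomain R] [ValuationRing R]
  {N : Type u} [Field N] [Algebra R N] {Γ₀ : Type u} [LinearOrderedCommGroupWithZero Γ₀] {v : Valuation N Γ₀}

/-- **An étale generator of the inertia field.** -/
theorem exists_etale_generator {E : Type u} [Field E] [Algebra E N] [FiniteDimensional E N] [IsGalois E N]
    [Algebra R E] [IsScalarTower R E N] (hB : Base R v) (hinf : Infinite (IsLocalRing.ResidueField R))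
    (I : Subgroup (N ≃ₐ[E] N)) (hI : ∀ σ, σ ∈ I ↔ ∀ x, v x ≤ 1 → v (σ x - x) < 1) :
    ∃ t ∈ IntermediateField.fixedField I, v t ≤ 1 ∧
      ∃ P : Polynomial E, P.Monic ∧ (∀ i, v (algebraMap E N (P.coeff i)) ≤ 1) ∧
        Polynomial.aeval t P = 0 ∧ v (Polynomial.aeval t (Polynomial.derivative P)) = 1 ∧
        ∀ x ∈ IntermediateField.fixedField I, v x ≤ 1 →
          ∃ A B : Polynomial E, (∀ i, v (algebraMap E N (A.coeff i)) ≤ 1) ∧
            (∀ i, v (algebraMap E N (B.coeff i)) ≤ 1) ∧ v (Polynomial.aeval t B) = 1 ∧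
            x * Polynomial.aeval t B = Polynomial.aeval t A := by
  classical
  obtain ⟨t, ht, htI, htn⟩ := exists_t hB.toBase₀ hinf I hI
  let S : Finset N := Finset.univ.image fun τ : N ≃ₐ[E] N => τ t
  have hSt : t ∈ S := Finset.mem_image.2 ⟨1, Finset.mem_univ _, rfl⟩
  have hSv : ∀ s ∈ S, v s ≤ 1 := by
    intro s hs
    obtain ⟨ρ, -, rfl⟩ := Finset.mem_image.1 hs
    exact ht ρ
  obtain ⟨P, hPm, hP⟩ := exists_nodal (E := E) S (by
    intro τ s hs
    obtain ⟨ρ, -, rfl⟩ := Finset.mem_image.1 hs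
    exact Finset.mem_image.2 ⟨τ * ρ, Finset.mem_univ _, rfl⟩)
  have hPi : IntE v P := by
    refine intE_of_map ?_
    rw [hP]
    exact intN_nodal hSv
  have hroot : aeval t P = 0 := by
    rw [← eval_map_algebraMap, hP]
    exact Lagrange.eval_nodal_at_node (v := (id : N → N)) hSt
  -- the derivative at a root
  have hder : ∀ s ∈ S, ((derivative P).map (algebraMap E N)).eval s =
      (Lagrange.nodal (S.erase s) (id : N → N)).eval s := by
    intro s hs
    rw [← derivative_map, hP]
    exact Lagrange.eval_nodal_derivative_eval_node_eq (v := (id : N → N)) hs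
  have hvd : v ((Lagrange.nodal (S.erase t) id).eval t) = 1 := by
    rw [Lagrange.eval_nodal, map_prod]
    refine Finset.prod_eq_one fun s hs => ?_
    obtain ⟨hst, hs⟩ := Finset.mem_erase.1 hs
    obtain ⟨ρ, -, rfl⟩ := Finset.mem_image.1 hs
    rw [id, v.map_sub_swap]
    exact htn ρ fun hρ => hst (htI ρ hρ)
  have htf : t ∈ IntermediateField.fixedField I := fun τ => htI τ τ.2
  -- `E(t)` is the fixed field
  have hfix : ∀ y ∈ IntermediateField.fixedField I, ∃ h : E[X], aeval t h = y := by
    intro y hy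
    have h1 : y ∈ IntermediateField.adjoin E {t} := by
      rw [← IsGalois.fixedField_fixingSubgroup (IntermediateField.adjoin E {t})]
      intro τ
      have h2 : (τ : N ≃ₐ[E] N) ∈ I := by
        by_contra hσ
        have h1 := htn _ hσ
        have h3 : (τ : N ≃ₐ[E] N) t = t :=
          (IntermediateField.mem_fixingSubgroup_iff _ _).1 τ.2 t (IntermediateField.mem_adjoin_simple_self E t)
        rw [h3, sub_self, map_zero] at h1
        exact zero_ne_one h1
      exact hy ⟨τ, h2⟩
    have h2 : IsIntegral E t := Algebra.IsIntegral.isIntegral t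
    rw [← IntermediateField.mem_toSubalgebra, IntermediateField.adjoin_simple_toSubalgebra_of_isAlgebraic h2.isAlgebraic,
      Algebra.adjoin_singleton_eq_range_aeval] at h1
    obtain ⟨h, hh⟩ := h1
    exact ⟨h, hh⟩
  -- the interpolation polynomial
  have hH : ∀ y ∈ Bt v E, y ∈ IntermediateField.fixedField I → ∃ H : E[X], IntE v H ∧
      aeval t H = y * (Lagrange.nodal (S.erase t) (id : N → N)).eval t := by
    intro y hy hyI
    obtain ⟨h, rfl⟩ := hfix y hyI
    let H : E[X] := (h * derivative P) %ₘ P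
    let HN : N[X] := ∑ s ∈ S, C (aeval s h) * Lagrange.nodal (S.erase s) (id : N → N)
    have hHN : IntN v HN := by
      refine intN_sum fun s hs => (intN_C ?_).mul (intN_nodal fun i hi => hSv i (Finset.mem_of_mem_erase hi))
      obtain ⟨ρ, -, rfl⟩ := Finset.mem_image.1 hs
      have h1 : ρ (aeval t h) = aeval (ρ t) h := (aeval_algHom_apply (ρ : N →ₐ[E] N) t h).symm
      rw [← h1]
      exact hy ρ
    have heval : ∀ s ∈ S, eval s HN = aeval s h * (Lagrange.nodal (S.erase s) (id : N → N)).eval s := by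
      intro s hs
      rw [eval_finsetSum, Finset.sum_eq_single_of_mem s hs]
      · rw [eval_mul, eval_C]
      · intro r hr hrs
        have h1 : eval s (Lagrange.nodal (S.erase r) (id : N → N)) = 0 :=
          Lagrange.eval_nodal_at_node (v := (id : N → N)) (Finset.mem_erase.2 ⟨hrs.symm, hs⟩)
        rw [eval_mul, h1, mul_zero]
    have hroots : ∀ s ∈ S, aeval s P = 0 := by
      intro s hs
      rw [← eval_map_algebraMap, hP]
      exact Lagrange.eval_nodal_at_node (v := (id : N → N)) hs
    have heq : H.map (algebraMap E N) = HN := by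
      refine Polynomial.eq_of_degrees_lt_of_eval_finset_eq S ?_ ?_ ?_
      · rw [degree_map]
        refine (degree_modByMonic_lt _ hPm).trans_eq ?_
        rw [← degree_map P (algebraMap E N), hP, Lagrange.degree_nodal]
      · refine (degree_sum_le _ _).trans_lt ?_
        rw [Finset.sup_lt_iff (WithBot.bot_lt_coe _)]
        intro s hs
        refine (degree_mul_le _ _).trans_lt ?_
        rw [Lagrange.degree_nodal, Finset.card_erase_of_mem hs]
        refine (add_le_add_left degree_C_le _).trans_lt ?_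
        rw [zero_add]
        have h1 : 0 < S.card := Finset.card_pos.2 ⟨s, hs⟩
        exact_mod_cast Nat.sub_lt h1 one_pos
      · intro s hs
        rw [heval s hs, eval_map_algebraMap, aeval_modByMonic_eq_self_of_root (hroots s hs), map_mul,
          ← hder s hs, eval_map_algebraMap]
    refine ⟨H, intE_of_map (by rw [heq]; exact hHN), ?_⟩
    rw [← eval_map_algebraMap, heq, heval t hSt]
  refine ⟨t, htf, Bt_le ht, P, hPm, hPi, hroot, ?_, fun x hx hvx => ?_⟩
  · rw [← eval_map_algebraMap, hder t hSt]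
    exact hvd
  · obtain ⟨b, hb, hb1, hbx, hbI⟩ := exists_frac (E := E) hB.toBase₀ hinf hvx
    have hbf : b ∈ IntermediateField.fixedField I := fun τ => hbI τ (hx τ)
    obtain ⟨B, hBi, hBt⟩ := hH b hb hbf
    obtain ⟨A, hAi, hAt⟩ := hH (b * x) hbx (mul_mem hbf hx)
    refine ⟨A, B, hAi, hBi, ?_, ?_⟩
    · rw [hBt, map_mul, hb1, hvd, one_mul]
    · rw [hBt, hAt]
      ring

end Final

end K136.EtGen
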